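import Groth.Agent.Lib.ValSquare.Basic
import Groth.Agent.Lib.FinCond.Dominant
import Mathlib.AlgebraicGeometry.ValuativeCriterion
import Mathlib.RingTheory.Valuation.LocalSubring

/-!
# The valuative criterion tested on a dominant subscheme
-/

set_option autoImplicit false
universe u
open CategoryTheory Limits AlgebraicGeometry IsLocalRing

namespace Groth.Agent.Lib.ValSquare

variable {X Y Z : Scheme.{u}}

/-- The uniqueness part tested on residue fields. -/
def ResidueUniqueness (f : Y ⟶ X) : Prop :=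
  ∀ (y : Y) (R : ValuationSubring ↑(Y.residueField y)) (l₁ l₂ : Spec (CommRingCat.of ↥R) ⟶ Y),
    Spec.map (CommRingCat.ofHom R.subtype) ≫ l₁ = Y.fromSpecResidueField y →
    Spec.map (CommRingCat.ofHom R.subtype) ≫ l₂ = Y.fromSpecResidueField y →
    l₁ ≫ f = l₂ ≫ f → l₁ = l₂

/-- The existence part tested on residue fields. -/
def ResidueExistence (f : Y ⟶ X) : Prop :=
  ∀ (y : Y) (R : ValuationSubring ↑(Y.residueField y)) (φ : Spec (CommRingCat.of ↥R) ⟶ X),
    Spec.map (CommRingCat.ofHom R.subtype) ≫ φ = Y.fromSpecResidueField y ≫ f →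
    ∃ l : Spec (CommRingCat.of ↥R) ⟶ Y,
      Spec.map (CommRingCat.ofHom R.subtype) ≫ l = Y.fromSpecResidueField y ∧ l ≫ f = φ

/-- The image of a valuation ring in its fraction field. -/
def imageSubring (A K : Type u) [CommRing A] [IsDomain A] [ValuationRing A] [Field K] [Algebra A K]
    [IsFractionRing A K] : ValuationSubring K :=
  { (algebraMap A K).range with
    mem_or_inv_mem' := fun x => ValuationRing.isInteger_or_isInteger A x }

noncomputable def imageEquiv (A K : Type u) [CommRing A] [IsDomain A] [ValuationRing A] [Field K]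
    [Algebra A K] [IsFractionRing A K] : A ≃+* ↥(imageSubring A K) :=
  RingEquiv.ofBijective ((algebraMap A K).codRestrict (imageSubring A K).toSubring fun a => ⟨a, rfl⟩)
    ⟨fun a b h => IsFractionRing.injective A K (congrArg Subtype.val h),
      fun ⟨_, a, ha⟩ => ⟨a, Subtype.ext ha⟩⟩

theorem imageEquiv_apply {A K : Type u} [CommRing A] [IsDomain A] [ValuationRing A] [Field K]
    [Algebra A K] [IsFractionRing A K] (a : A) : ((imageEquiv A K a : ↥(imageSubring A K)) : K) =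
    algebraMap A K a := rfl

/-- Restriction of a field embedding to the induced valuation rings. -/
def comapRestrict {L K : Type u} [Field L] [Field K] (R : ValuationSubring K) (g : L →+* K) :
    ↥(R.comap g) →+* ↥R :=
  (g.comp (R.comap g).subtype).codRestrict R.toSubring fun x => x.2

theorem eq_of_residueUniqueness {f : Y ⟶ X} (H : ResidueUniqueness f) {A K : Type u} [CommRing A]
    [IsDomain A] [ValuationRing A] [Field K] [Algebra A K] [IsFractionRing A K]
    (i₁ : Spec (CommRingCat.of K) ⟶ Y) (l₁ l₂ : Spec (CommRingCat.of A) ⟶ Y)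
    (h₁ : Spec.map (CommRingCat.ofHom (algebraMap A K)) ≫ l₁ = i₁)
    (h₂ : Spec.map (CommRingCat.ofHom (algebraMap A K)) ≫ l₂ = i₁)
    (h12 : l₁ ≫ f = l₂ ≫ f) : l₁ = l₂ := by
  let R := imageSubring A K
  let e := imageEquiv A K
  let E : CommRingCat.of A ⟶ CommRingCat.of ↥R := CommRingCat.ofHom e.toRingHom
  have hE : E ≫ CommRingCat.ofHom R.subtype = CommRingCat.ofHom (algebraMap A K) := rfl
  haveI : IsIso (Spec.map E) :=
    inferInstanceAs (IsIso (Spec.map e.toCommRingCatIso.hom))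
  obtain ⟨⟨y, g⟩, hyg⟩ := (Scheme.SpecToEquivOfField K Y).symm.surjective i₁
  change Spec.map g ≫ Y.fromSpecResidueField y = i₁ at hyg
  have hgen : ∀ l : Spec (CommRingCat.of A) ⟶ Y,
      Spec.map (CommRingCat.ofHom R.subtype) ≫ Spec.map E ≫ l =
        Spec.map (CommRingCat.ofHom (algebraMap A K)) ≫ l := fun l => by
    rw [← hE, Spec.map_comp, Category.assoc]
  refine (cancel_epi (Spec.map E)).mp ?_
  have aux : ∀ m : Spec (CommRingCat.of ↥R) ⟶ Y, Spec.map (CommRingCat.ofHom R.subtype) ≫ m = i₁ →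
      ∃ m' : Spec (CommRingCat.of ↥(R.comap g.hom)) ⟶ Y,
        Spec.map (CommRingCat.ofHom (comapRestrict R g.hom)) ≫ m' = m ∧
        Spec.map (CommRingCat.ofHom (R.comap g.hom).subtype) ≫ m' = Y.fromSpecResidueField y := by
    intro m hm
    obtain ⟨m', hm', -⟩ := existsUnique_factor_residueField (𝟙 Y) K R i₁ m
      (by rw [Category.comp_id, hm]) y g hyg (comapRestrict R g.hom) (fun _ => rfl)
    exact ⟨m', hm'.1, hm'.2.trans (Category.comp_id _)⟩
  obtain ⟨m₁', hm₁, hm₁'⟩ := aux (Spec.map E ≫ l₁) (by rw [hgen, h₁])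
  obtain ⟨m₂', hm₂, hm₂'⟩ := aux (Spec.map E ≫ l₂) (by rw [hgen, h₂])
  have wR : Spec.map (CommRingCat.ofHom R.subtype) ≫ (Spec.map E ≫ l₁) ≫ f = i₁ ≫ f := by
    rw [← Category.assoc, hgen, h₁]
  have key := (existsUnique_factor_residueField f K R i₁ ((Spec.map E ≫ l₁) ≫ f) wR y g hyg
    (comapRestrict R g.hom) (fun _ => rfl)).unique
      (y₁ := m₁' ≫ f) (y₂ := m₂' ≫ f)
      ⟨by rw [← Category.assoc, hm₁], by rw [← Category.assoc, hm₁']⟩
      ⟨by rw [← Category.assoc, hm₂, Category.assoc, Category.assoc, h12],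
        by rw [← Category.assoc, hm₂']⟩
  rw [← hm₁, ← hm₂, H y _ m₁' m₂' hm₁' hm₂' key]

theorem exists_of_residueExistence {f : Y ⟶ X} (H : ResidueExistence f) {A K : Type u} [CommRing A]
    [IsDomain A] [ValuationRing A] [Field K] [Algebra A K] [IsFractionRing A K]
    (i₁ : Spec (CommRingCat.of K) ⟶ Y) (i₂ : Spec (CommRingCat.of A) ⟶ X)
    (w : i₁ ≫ f = Spec.map (CommRingCat.ofHom (algebraMap A K)) ≫ i₂) :
    ∃ l : Spec (CommRingCat.of A) ⟶ Y,
      Spec.map (CommRingCat.ofHom (algebraMap A K)) ≫ l = i₁ ∧ l ≫ f = i₂ := by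
  let R := imageSubring A K
  let e := imageEquiv A K
  let E : CommRingCat.of A ⟶ CommRingCat.of ↥R := CommRingCat.ofHom e.toRingHom
  have hE : E ≫ CommRingCat.ofHom R.subtype = CommRingCat.ofHom (algebraMap A K) := rfl
  haveI : IsIso (Spec.map E) :=
    inferInstanceAs (IsIso (Spec.map e.toCommRingCatIso.hom))
  obtain ⟨⟨y, g⟩, hyg⟩ := (Scheme.SpecToEquivOfField K Y).symm.surjective i₁
  change Spec.map g ≫ Y.fromSpecResidueField y = i₁ at hyg
  obtain ⟨φ', ⟨hφ'1, hφ'2⟩, -⟩ := existsUnique_factor_residueField f K R i₁ (Spec.map E ≫ i₂)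
    (by rw [← Category.assoc, ← Spec.map_comp, hE, ← w]) y g hyg
    (comapRestrict R g.hom) (fun _ => rfl)
  obtain ⟨l, hl1, hl2⟩ := H y _ φ' hφ'2
  refine ⟨inv (Spec.map E) ≫ Spec.map (CommRingCat.ofHom (comapRestrict R g.hom)) ≫ l, ?_, ?_⟩
  · rw [← hE, Spec.map_comp, Category.assoc, IsIso.hom_inv_id_assoc, ← hyg, ← hl1,
      ← Category.assoc, ← Category.assoc, ← Spec.map_comp, ← Spec.map_comp]
    rfl
  · rw [Category.assoc, Category.assoc, hl2, hφ'1, IsIso.inv_hom_id_assoc]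

theorem uniqueness_of_residue {f : Y ⟶ X} (H : ResidueUniqueness f) :
    ValuativeCriterion.Uniqueness f := fun S =>
  ⟨fun a b => CommSq.LiftStruct.ext (eq_of_residueUniqueness H S.i₁ a.l b.l a.fac_left b.fac_left
    (a.fac_right.trans b.fac_right.symm))⟩

theorem existence_of_residue {f : Y ⟶ X} (H : ResidueExistence f) :
    ValuativeCriterion.Existence f := fun S => by
  obtain ⟨l, h₁, h₂⟩ := exists_of_residueExistence H S.i₁ S.i₂ S.commSq.w
  exact ⟨⟨⟨l, h₁, h₂⟩⟩⟩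

/-- A valuation ring of the residue field at `y` dominated along a generization `h z ⤳ y`. -/
structure LiftData (h : Z ⟶ Y) (z : Z) (y : Y) (R : ValuationSubring ↑(Y.residueField y)) where
  A : ValuationSubring ↑(Z.residueField z)
  e : ↑(Y.residueField y) →+* ResidueField ↥A
  Rt : ValuationSubring (ResidueField ↥A)
  R₁ : ValuationSubring ↑(Z.residueField z)
  le : R₁ ≤ A
  σ : ↥R₁ →+* ↥Rt
  σ_surj : Function.Surjective σ
  σ_spec : ∀ x : ↥R₁, ((σ x : ↥Rt) : ResidueField ↥A) = residue ↥A ⟨x, le x.2⟩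
  σ₀ : ↥R →+* ↥Rt
  σ₀_local : IsLocalHom σ₀
  σ₀_spec : ∀ x : ↥R, ((σ₀ x : ↥Rt) : ResidueField ↥A) = e x
  comap_eq : Rt.comap e = R
  g : Spec (CommRingCat.of ↥A) ⟶ Y
  g_gen : Spec.map (CommRingCat.ofHom A.subtype) ≫ g = Z.fromSpecResidueField z ≫ h
  g_res : Spec.map (CommRingCat.ofHom (residue ↥A)) ≫ g =
    Spec.map (CommRingCat.ofHom e) ≫ Y.fromSpecResidueField y

theorem nonempty_liftData (h : Z ⟶ Y) (z : Z) (y : Y) (hy : h z ⤳ y)
    (R : ValuationSubring ↑(Y.residueField y)) : Nonempty (LiftData h z y R) := by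
  let β : Y.presheaf.stalk y ⟶ Z.residueField z :=
    Y.presheaf.stalkSpecializes hy ≫ h.stalkMap z ≫ Z.residue z
  obtain ⟨A, hA, hAl⟩ := exists_factor_valuationRing β.hom
  let c : Y.presheaf.stalk y →+* ↥A := β.hom.codRestrict A.toSubring hA
  haveI : IsLocalHom c := hAl
  let e : ↑(Y.residueField y) →+* ResidueField ↥A := ResidueField.map c
  obtain ⟨Rt, hRt, hRtl⟩ := exists_factor_valuationRing (e.comp R.subtype)
  let σ₀ : ↥R →+* ↥Rt := (e.comp R.subtype).codRestrict Rt.toSubring hRt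
  haveI : IsLocalHom σ₀ := hRtl
  have hR : Rt.comap e = R := by
    refine le_antisymm (fun x hx => ?_) fun x hx => hRt ⟨x, hx⟩
    rcases R.mem_or_inv_mem x with hx' | hx'
    · exact hx'
    · by_contra hn
      have h0 : x ≠ 0 := fun h0 => hn (h0 ▸ R.zero_mem)
      have hu : IsUnit (σ₀ ⟨x⁻¹, hx'⟩) := isUnit_iff_exists_inv.mpr
        ⟨⟨e x, hx⟩, Subtype.ext (by
          show e x⁻¹ * e x = 1
          rw [← map_mul, inv_mul_cancel₀ h0, map_one])⟩
      obtain ⟨b, hb⟩ := isUnit_iff_exists_inv.mp (hu.of_map σ₀ _)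
      have hb' : x⁻¹ * (b : Y.residueField y) = 1 := congrArg Subtype.val hb
      exact hn (inv_inv x ▸ (inv_eq_of_mul_eq_one_right hb') ▸ b.2)
  let P : Subring ↥A := Rt.toSubring.comap (residue ↥A)
  let R₁ : ValuationSubring ↑(Z.residueField z) :=
    { P.map A.subtype with
      mem_or_inv_mem' := fun x => by
        rcases A.mem_or_inv_mem x with hx | hx
        · rcases Rt.mem_or_inv_mem (residue ↥A ⟨x, hx⟩) with hr | hr
          · exact Or.inl ⟨⟨x, hx⟩, hr, rfl⟩
          · by_cases h0 : residue ↥A ⟨x, hx⟩ = 0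
            · exact Or.inl ⟨⟨x, hx⟩, show residue ↥A ⟨x, hx⟩ ∈ Rt from h0 ▸ Rt.zero_mem, rfl⟩
            · obtain ⟨b, hb⟩ := isUnit_iff_exists_inv.mp
                ((residue_ne_zero_iff_isUnit (⟨x, hx⟩ : ↥A)).mp h0)
              have hb' : x * (b : Z.residueField z) = 1 := congrArg Subtype.val hb
              refine Or.inr ⟨b, show residue ↥A b ∈ Rt from ?_, (inv_eq_of_mul_eq_one_right hb').symm⟩
              rwa [← inv_eq_of_mul_eq_one_right (by rw [← map_mul, hb, map_one] :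
                residue ↥A ⟨x, hx⟩ * residue ↥A b = 1)]
        · by_cases hxA : x ∈ A
          · rcases Rt.mem_or_inv_mem (residue ↥A ⟨x, hxA⟩) with hr | hr
            · exact Or.inl ⟨⟨x, hxA⟩, hr, rfl⟩
            · by_cases h0 : x = 0
              · exact Or.inl ⟨0, P.zero_mem, h0.symm⟩
              · refine Or.inr ⟨⟨x⁻¹, hx⟩, show residue ↥A ⟨x⁻¹, hx⟩ ∈ Rt from ?_, rfl⟩
                rwa [← inv_eq_of_mul_eq_one_right (by
                  rw [← map_mul, ← map_one (residue ↥A)]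
                  exact congrArg _ (Subtype.ext (mul_inv_cancel₀ h0)) :
                  residue ↥A ⟨x, hxA⟩ * residue ↥A ⟨x⁻¹, hx⟩ = 1)]
          · refine Or.inr ⟨⟨x⁻¹, hx⟩, show residue ↥A ⟨x⁻¹, hx⟩ ∈ Rt from ?_, rfl⟩
            have hnu : ¬ IsUnit (⟨x⁻¹, hx⟩ : ↥A) := fun hu => by
              obtain ⟨b, hb⟩ := isUnit_iff_exists_inv.mp hu
              have hb' : x⁻¹ * (b : Z.residueField z) = 1 := congrArg Subtype.val hb
              exact hxA (inv_inv x ▸ (inv_eq_of_mul_eq_one_right hb') ▸ b.2)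
            rw [(residue_eq_zero_iff _).mpr hnu]
            exact Rt.zero_mem }
  have hle : R₁ ≤ A := fun x hx => by obtain ⟨a, -, rfl⟩ := hx; exact a.2
  have hmem : ∀ x : ↥R₁, residue ↥A ⟨x, hle x.2⟩ ∈ Rt := fun x => by
    obtain ⟨a, ha, hax⟩ := x.2
    have : a = ⟨x, hle x.2⟩ := Subtype.ext hax
    exact this ▸ ha
  exact ⟨{
    A := A, e := e, Rt := Rt, R₁ := R₁, le := hle
    σ := ((residue ↥A).comp (R₁.subtype.codRestrict A.toSubring fun x => hle x.2)).codRestrict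
      Rt.toSubring hmem
    σ_surj := fun t => by
      obtain ⟨a, ha⟩ := residue_surjective (R := ↥A) (t : ResidueField ↥A)
      exact ⟨⟨a, a, show residue ↥A a ∈ Rt from ha ▸ t.2, rfl⟩, Subtype.ext ha⟩
    σ_spec := fun _ => rfl
    σ₀ := σ₀, σ₀_local := inferInstance, σ₀_spec := fun _ => rfl
    comap_eq := hR
    g := Spec.map (CommRingCat.ofHom c) ≫ Y.fromSpecStalk y
    g_gen := by
      rw [← Category.assoc, ← Spec.map_comp]
      show Spec.map β ≫ _ = _
      simp only [β, Spec.map_comp, Category.assoc, Scheme.SpecMap_stalkSpecializes_fromSpecStalk,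
        Scheme.SpecMap_stalkMap_fromSpecStalk, Scheme.fromSpecResidueField]
    g_res := by
      rw [Scheme.fromSpecResidueField, ← Category.assoc, ← Category.assoc, ← Spec.map_comp,
        ← Spec.map_comp]
      rfl }⟩

namespace LiftData

variable {h : Z ⟶ Y} {z : Z} {y : Y} {R : ValuationSubring ↑(Y.residueField y)}

/-- Glue a morphism on `R` with one on `A`. -/
theorem exists_glue (d : LiftData h z y R) {W : Scheme.{u}} (m : Y ⟶ W)
    (l : Spec (CommRingCat.of ↥R) ⟶ W)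
    (hl : Spec.map (CommRingCat.ofHom R.subtype) ≫ l = Y.fromSpecResidueField y ≫ m) :
    ∃ L : Spec (CommRingCat.of ↥d.R₁) ⟶ W,
      Spec.map (CommRingCat.ofHom d.R₁.subtype) ≫ L = Z.fromSpecResidueField z ≫ h ≫ m ∧
      Spec.map (CommRingCat.ofHom d.σ) ≫ L = Spec.map (CommRingCat.ofHom d.σ₀) ≫ l := by
  let ι : ↥d.R₁ →+* ↥d.A := d.R₁.subtype.codRestrict d.A.toSubring fun x => d.le x.2
  obtain ⟨L, ⟨h1, -, -, h4⟩, -⟩ := existsUnique_lift_of_residue (terminal.from W)
    ↑(Z.residueField z) d.R₁ d.A d.le ι (fun _ => rfl) (Z.fromSpecResidueField z ≫ h ≫ m)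
    (terminal.from _) (terminalIsTerminal.hom_ext _ _) (d.g ≫ m)
    (by rw [← Category.assoc, d.g_gen, Category.assoc]) d.Rt d.σ d.σ_surj (fun x => d.σ_spec x)
    (Spec.map (CommRingCat.ofHom d.σ₀) ≫ l)
    (by
      have e : CommRingCat.ofHom d.σ₀ ≫ CommRingCat.ofHom d.Rt.subtype =
          CommRingCat.ofHom R.subtype ≫ CommRingCat.ofHom d.e := by
        ext x; exact d.σ₀_spec x
      rw [← Category.assoc, ← Spec.map_comp, e, Spec.map_comp, Category.assoc, hl,
        ← Category.assoc, ← d.g_res, Category.assoc])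
    (terminalIsTerminal.hom_ext _ _)
  exact ⟨L, h1, h4⟩

theorem ext_of_comp (d : LiftData h z y R) {W : Scheme.{u}} (l₁ l₂ : Spec (CommRingCat.of ↥R) ⟶ W)
    (hgen : Spec.map (CommRingCat.ofHom R.subtype) ≫ l₁ =
      Spec.map (CommRingCat.ofHom R.subtype) ≫ l₂)
    (hσ : Spec.map (CommRingCat.ofHom d.σ₀) ≫ l₁ = Spec.map (CommRingCat.ofHom d.σ₀) ≫ l₂) :
    l₁ = l₂ := by
  haveI := d.σ₀_local
  refine eq_of_comp_eq R.subtype Subtype.val_injective _ _ ?_ hgen
  rw [← map_closedPoint d.σ₀]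
  show (Spec.map (CommRingCat.ofHom d.σ₀) ≫ l₁) (closedPoint _) =
    (Spec.map (CommRingCat.ofHom d.σ₀) ≫ l₂) (closedPoint _)
  rw [hσ]

theorem map_closedPoint_eq (d : LiftData h z y R) {W : Scheme.{u}}
    (L : Spec (CommRingCat.of ↥d.R₁) ⟶ W) (l : Spec (CommRingCat.of ↥R) ⟶ W)
    (e : Spec.map (CommRingCat.ofHom d.σ) ≫ L = Spec.map (CommRingCat.ofHom d.σ₀) ≫ l) :
    L (closedPoint ↥d.R₁) = l (closedPoint ↥R) := by
  haveI := d.σ₀_local
  haveI : IsLocalHom d.σ := IsLocalHom.of_surjective d.σ d.σ_surj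
  rw [← map_closedPoint d.σ, ← map_closedPoint d.σ₀]
  show (Spec.map (CommRingCat.ofHom d.σ) ≫ L) (closedPoint _) =
    (Spec.map (CommRingCat.ofHom d.σ₀) ≫ l) (closedPoint _)
  rw [e]

end LiftData

theorem residueUniqueness_of_dominant (h : Z ⟶ Y) (f : Y ⟶ X) [QuasiCompact h]
    (hd : DenseRange h.base)
    (H : ∀ (z : ↥Z) (R : ValuationSubring ↑(Z.residueField z)) (φ₁ φ₂ : Spec (CommRingCat.of ↥R) ⟶ Y),
      Spec.map (CommRingCat.ofHom R.subtype) ≫ φ₁ = Z.fromSpecResidueField z ≫ h →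
      Spec.map (CommRingCat.ofHom R.subtype) ≫ φ₂ = Z.fromSpecResidueField z ≫ h →
      φ₁ ≫ f = φ₂ ≫ f → φ₁ = φ₂) : ResidueUniqueness f := by
  intro y R l₁ l₂ h₁ h₂ h12
  obtain ⟨z, hz⟩ := FinCond.exists_specializes_of_mem_closure_range h (y := y)
    (by rw [hd.closure_range]; trivial)
  obtain ⟨d⟩ := nonempty_liftData h z y hz R
  obtain ⟨L₁, a₁, b₁⟩ := d.exists_glue (𝟙 Y) l₁ (by rw [h₁, Category.comp_id])
  obtain ⟨L₂, a₂, b₂⟩ := d.exists_glue (𝟙 Y) l₂ (by rw [h₂, Category.comp_id])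
  rw [Category.comp_id] at a₁ a₂
  refine d.ext_of_comp l₁ l₂ (h₁.trans h₂.symm) ?_
  rw [← b₁, ← b₂, H z _ L₁ L₂ a₁ a₂ ?_]
  refine eq_of_comp_eq d.R₁.subtype Subtype.val_injective _ _ ?_
    (by rw [← Category.assoc, a₁, ← Category.assoc, a₂])
  show f (L₁ (closedPoint _)) = f (L₂ (closedPoint _))
  rw [d.map_closedPoint_eq L₁ l₁ b₁, d.map_closedPoint_eq L₂ l₂ b₂]
  show (l₁ ≫ f) (closedPoint _) = (l₂ ≫ f) (closedPoint _)
  rw [h12]

theorem residueExistence_of_dominant (h : Z ⟶ Y) (f : Y ⟶ X) [QuasiCompact h]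
    (hd : DenseRange h.base) (hu : ValuativeCriterion.Uniqueness f)
    (H : ∀ (z : ↥Z) (R : ValuationSubring ↑(Z.residueField z)) (φ : Spec (CommRingCat.of ↥R) ⟶ X),
      Spec.map (CommRingCat.ofHom R.subtype) ≫ φ = Z.fromSpecResidueField z ≫ h ≫ f →
      ∃ φ' : Spec (CommRingCat.of ↥R) ⟶ Y,
        Spec.map (CommRingCat.ofHom R.subtype) ≫ φ' = Z.fromSpecResidueField z ≫ h ∧ φ' ≫ f = φ) :
    ResidueExistence f := by
  intro y R φ hφ
  obtain ⟨z, hz⟩ := FinCond.exists_specializes_of_mem_closure_range h (y := y)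
    (by rw [hd.closure_range]; trivial)
  obtain ⟨d⟩ := nonempty_liftData h z y hz R
  obtain ⟨φ₁, a, b⟩ := d.exists_glue f φ hφ
  obtain ⟨L, hL₁, hL₂⟩ := H z d.R₁ φ₁ a
  let ι : ↥d.R₁ →+* ↥d.A := d.R₁.subtype.codRestrict d.A.toSubring fun x => d.le x.2
  have hιs : CommRingCat.ofHom ι ≫ CommRingCat.ofHom d.A.subtype =
      CommRingCat.ofHom d.R₁.subtype := rfl
  have hg : Spec.map (CommRingCat.ofHom ι) ≫ L = d.g := by
    have hA : Spec.map (CommRingCat.ofHom d.A.subtype) ≫ Spec.map (CommRingCat.ofHom ι) ≫ L =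
        Z.fromSpecResidueField z ≫ h := by
      rw [← Category.assoc, ← Spec.map_comp, hιs, hL₁]
    haveI : IsLocalHom d.σ := IsLocalHom.of_surjective d.σ d.σ_surj
    have hφ₁ : Spec.map (CommRingCat.ofHom ι) ≫ φ₁ = d.g ≫ f := by
      have e2 : CommRingCat.ofHom d.σ ≫ CommRingCat.ofHom d.Rt.subtype =
          CommRingCat.ofHom ι ≫ CommRingCat.ofHom (residue ↥d.A) := by
        ext x; exact d.σ_spec x
      have e3 : CommRingCat.ofHom d.σ₀ ≫ CommRingCat.ofHom d.Rt.subtype =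
          CommRingCat.ofHom R.subtype ≫ CommRingCat.ofHom d.e := by
        ext x; exact d.σ₀_spec x
      have e4 := congrArg (Spec.map (CommRingCat.ofHom d.Rt.subtype) ≫ ·) b
      simp only [← Category.assoc, ← Spec.map_comp, e2, e3] at e4
      simp only [Spec.map_comp, Category.assoc, hφ] at e4
      refine eq_of_comp_eq d.A.subtype Subtype.val_injective _ _ ?_ ?_
      · rw [← map_closedPoint (residue ↥d.A)]
        show (Spec.map (CommRingCat.ofHom (residue ↥d.A)) ≫ Spec.map (CommRingCat.ofHom ι) ≫ φ₁)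
          (closedPoint _) = (Spec.map (CommRingCat.ofHom (residue ↥d.A)) ≫ d.g ≫ f) (closedPoint _)
        rw [e4, ← Category.assoc, ← Category.assoc (Spec.map _) d.g, d.g_res]
      · rw [← Category.assoc, ← Spec.map_comp, hιs, a, ← Category.assoc _ d.g, d.g_gen,
          Category.assoc]
    let S : ValuativeCommSq f :=
      { R := ↥d.A, K := ↑(Z.residueField z), i₁ := Z.fromSpecResidueField z ≫ h
        i₂ := d.g ≫ f
        commSq := ⟨(by
          show (Z.fromSpecResidueField z ≫ h) ≫ f = Spec.map (CommRingCat.ofHom d.A.subtype) ≫ d.g ≫ f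
          rw [← d.g_gen, Category.assoc])⟩ }
    have := hu S
    exact congrArg CommSq.LiftStruct.l (Subsingleton.elim
      (α := S.commSq.LiftStruct) ⟨_, hA, by rw [Category.assoc, hL₂, hφ₁]⟩ ⟨d.g, d.g_gen, rfl⟩)
  have hres : Spec.map (CommRingCat.ofHom d.Rt.subtype) ≫ Spec.map (CommRingCat.ofHom d.σ) ≫ L =
      (Spec.map (CommRingCat.ofHom d.e) ≫ Y.fromSpecResidueField y) ≫ 𝟙 Y := by
    rw [Category.comp_id, ← d.g_res, ← hg, ← Category.assoc, ← Category.assoc, ← Spec.map_comp,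
      ← Spec.map_comp]
    congr 2
    ext x; exact d.σ_spec x
  obtain ⟨l', ⟨hl'1, hl'2⟩, -⟩ := existsUnique_factor_residueField (𝟙 Y) (ResidueField ↥d.A) d.Rt
    (Spec.map (CommRingCat.ofHom d.e) ≫ Y.fromSpecResidueField y)
    (Spec.map (CommRingCat.ofHom d.σ) ≫ L) hres y (CommRingCat.ofHom d.e) rfl
    (comapRestrict d.Rt d.e) (fun _ => rfl)
  let π : ↥(d.Rt.comap d.e) →+* ↥R :=
    (d.Rt.comap d.e).subtype.codRestrict R.toSubring fun x => d.comap_eq.le x.2
  refine ⟨Spec.map (CommRingCat.ofHom π) ≫ l', ?_, ?_⟩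
  · rw [← Category.assoc, ← Spec.map_comp]
    exact (hl'2.trans (Category.comp_id _))
  · haveI := d.σ₀_local
    refine d.ext_of_comp _ _ ?_ ?_
    · rw [← Category.assoc, ← Category.assoc, ← Spec.map_comp, hφ]
      exact congrArg (· ≫ f) (hl'2.trans (Category.comp_id _))
    · rw [← b, ← hL₂, ← Category.assoc, ← Category.assoc, ← Category.assoc]
      congr 1
      rw [← hl'1, ← Spec.map_comp]
      congr 2
      ext x; exact d.σ₀_spec (π x)

end Groth.Agent.Lib.ValSquare
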