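import Mathlib.AlgebraicGeometry.ResidueField
import Mathlib.AlgebraicGeometry.Stalk
import Mathlib.RingTheory.Valuation.ValuationSubring

/-!
# Morphisms from spectra of valuation rings
-/

set_option autoImplicit false
universe u
open CategoryTheory AlgebraicGeometry IsLocalRing

namespace Groth.Agent.Lib.ValSquare

variable {X Y : Scheme.{u}}

/-- A morphism from the spectrum of a local ring factors through the stalk at the image of the
closed point. -/
theorem exists_factor {S : Type u} [CommRing S] [IsLocalRing S] (h : Spec (CommRingCat.of S) ⟶ X)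
    (x : X) (hx : h (closedPoint S) = x) :
    ∃ ψ : X.presheaf.stalk x ⟶ CommRingCat.of S, Spec.map ψ ≫ X.fromSpecStalk x = h := by
  subst hx
  exact ⟨Scheme.stalkClosedPointTo h, Scheme.Spec_stalkClosedPointTo_fromSpecStalk h⟩

theorem map_closedPoint {S T : Type u} [CommRing S] [IsLocalRing S] [CommRing T] [IsLocalRing T]
    (φ : S →+* T) [IsLocalHom φ] :
    Spec.map (CommRingCat.ofHom φ) (closedPoint T) = closedPoint S :=
  comap_closedPoint φ

/-- Two morphisms from the spectrum of a local subring of a field agree as soon as they agree at the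
closed point and after restriction to the field. -/
theorem eq_of_comp_eq {S K : Type u} [CommRing S] [IsLocalRing S] [CommRing K] (j : S →+* K)
    (hj : Function.Injective j) (h h' : Spec (CommRingCat.of S) ⟶ X)
    (hpt : h (closedPoint S) = h' (closedPoint S))
    (hgen : Spec.map (CommRingCat.ofHom j) ≫ h = Spec.map (CommRingCat.ofHom j) ≫ h') : h = h' := by
  obtain ⟨ψ, hψ⟩ := exists_factor h _ rfl
  obtain ⟨ψ', hψ'⟩ := exists_factor h' _ hpt.symm
  rw [← hψ, ← hψ'] at hgen ⊢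
  rw [← Category.assoc, ← Category.assoc, cancel_mono, ← Spec.map_comp, ← Spec.map_comp] at hgen
  have e := Spec.map_injective hgen
  rw [show ψ = ψ' from CommRingCat.hom_ext (RingHom.ext fun a => hj congr($e a))]

theorem existsUnique_factor_residueField (f : Y ⟶ X)
    (K : Type u) [Field K] (R : ValuationSubring K)
    (i : Spec (CommRingCat.of K) ⟶ Y) (φ : Spec (CommRingCat.of ↥R) ⟶ X)
    (w : Spec.map (CommRingCat.ofHom R.subtype) ≫ φ = i ≫ f)
    (y : Y) (g : Y.residueField y ⟶ CommRingCat.of K) (hg : Spec.map g ≫ Y.fromSpecResidueField y = i)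
    (ρ : ↥(R.comap g.hom) →+* ↥R)
    (hρ : ∀ x : ↥(R.comap g.hom), ((ρ x : ↥R) : K) = g.hom (x : ↑(Y.residueField y))) :
    ∃! φ' : Spec (CommRingCat.of ↥(R.comap g.hom)) ⟶ X,
      Spec.map (CommRingCat.ofHom ρ) ≫ φ' = φ ∧
      Spec.map (CommRingCat.ofHom (R.comap g.hom).subtype) ≫ φ' = Y.fromSpecResidueField y ≫ f := by
  haveI : IsLocalHom ρ := by
    refine ⟨fun a ha => ?_⟩
    obtain ⟨b, hb⟩ := isUnit_iff_exists_inv.mp ha
    have hb' : g.hom (a : Y.residueField y) * (b : K) = 1 := by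
      rw [← hρ]; exact congrArg Subtype.val hb
    have ha0 : (a : Y.residueField y) ≠ 0 := fun h => by
      rw [h, map_zero, zero_mul] at hb'; exact zero_ne_one hb'
    refine isUnit_iff_exists_inv.mpr ⟨⟨(a : Y.residueField y)⁻¹, ?_⟩, Subtype.ext (mul_inv_cancel₀ ha0)⟩
    show g.hom (a : Y.residueField y)⁻¹ ∈ R
    rw [map_inv₀, inv_eq_of_mul_eq_one_right hb']
    exact b.2
  obtain ⟨x, hx⟩ : ∃ x, φ (closedPoint ↥R) = x := ⟨_, rfl⟩
  obtain ⟨α, hα⟩ := exists_factor φ x hx
  have hsp : f y ⤳ x := by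
    have h1 : Spec.map (CommRingCat.ofHom R.subtype) (closedPoint K) ⤳ closedPoint ↥R :=
      specializes_closedPoint _
    have h2 := h1.map φ.continuous
    have h3 : φ (Spec.map (CommRingCat.ofHom R.subtype) (closedPoint K)) = f y := by
      show (Spec.map (CommRingCat.ofHom R.subtype) ≫ φ) (closedPoint K) = f y
      rw [w, ← hg]
      show f (Y.fromSpecResidueField y _) = f y
      rw [Scheme.fromSpecResidueField_apply]
    rwa [h3, hx] at h2
  let β : X.presheaf.stalk x ⟶ Y.residueField y :=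
    X.presheaf.stalkSpecializes hsp ≫ f.stalkMap y ≫ Y.residue y
  have hβ : Spec.map β ≫ X.fromSpecStalk x = Y.fromSpecResidueField y ≫ f := by
    simp only [β, Spec.map_comp, Category.assoc, Scheme.SpecMap_stalkSpecializes_fromSpecStalk,
      Scheme.SpecMap_stalkMap_fromSpecStalk, Scheme.fromSpecResidueField]
  have hαβ : α ≫ CommRingCat.ofHom R.subtype = β ≫ g := by
    apply Spec.map_injective
    rw [← cancel_mono (X.fromSpecStalk x), Spec.map_comp, Spec.map_comp, Category.assoc, hα,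
      Category.assoc, hβ, w, ← hg, Category.assoc]
  have hmem : ∀ a, β.hom a ∈ R.comap g.hom := fun a => by
    show g.hom (β.hom a) ∈ R
    rw [show g.hom (β.hom a) = ((α.hom a : ↥R) : K) from congr($hαβ.symm a)]
    exact (α.hom a).2
  let ψ : X.presheaf.stalk x ⟶ CommRingCat.of ↥(R.comap g.hom) :=
    CommRingCat.ofHom (β.hom.codRestrict (R.comap g.hom).toSubring hmem)
  have h1 : ψ ≫ CommRingCat.ofHom ρ = α := by
    ext a
    show ((ρ (ψ.hom a) : ↥R) : K) = ((α.hom a : ↥R) : K)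
    rw [hρ]
    exact congr($hαβ.symm a)
  have h2 : ψ ≫ CommRingCat.ofHom (R.comap g.hom).subtype = β := rfl
  refine ⟨Spec.map ψ ≫ X.fromSpecStalk x, ⟨?_, ?_⟩, ?_⟩
  · rw [← Category.assoc, ← Spec.map_comp, h1, hα]
  · rw [← Category.assoc, ← Spec.map_comp, h2, hβ]
  · rintro φ'' ⟨e1, e2⟩
    refine eq_of_comp_eq (R.comap g.hom).subtype Subtype.val_injective _ _ ?_ ?_
    · rw [← map_closedPoint ρ]
      show (Spec.map (CommRingCat.ofHom ρ) ≫ φ'') (closedPoint ↥R) =
        (Spec.map (CommRingCat.ofHom ρ) ≫ Spec.map ψ ≫ X.fromSpecStalk x) (closedPoint ↥R)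
      rw [e1, ← Category.assoc, ← Spec.map_comp, h1, hα]
    · rw [e2, ← Category.assoc, ← Spec.map_comp, h2, hβ]

theorem existsUnique_lift_of_residue (f : Y ⟶ X)
    (K : Type u) [Field K] (R R' : ValuationSubring K) (hRR' : R ≤ R')
    (ι : ↥R →+* ↥R') (hι : ∀ x : ↥R, ((ι x : ↥R') : K) = (x : K))
    (i : Spec (CommRingCat.of K) ⟶ Y) (φ : Spec (CommRingCat.of ↥R) ⟶ X)
    (w : Spec.map (CommRingCat.ofHom R.subtype) ≫ φ = i ≫ f)
    (g : Spec (CommRingCat.of ↥R') ⟶ Y) (hg₁ : Spec.map (CommRingCat.ofHom R'.subtype) ≫ g = i)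
    (Rt : ValuationSubring (IsLocalRing.ResidueField ↥R')) (σ : ↥R →+* ↥Rt) (hσs : Function.Surjective σ)
    (hσ : ∀ x : ↥R, ((σ x : ↥Rt) : IsLocalRing.ResidueField ↥R') = IsLocalRing.residue ↥R' (ι x))
    (ht : Spec (CommRingCat.of ↥Rt) ⟶ Y)
    (hht₁ : Spec.map (CommRingCat.ofHom Rt.subtype) ≫ ht =
      Spec.map (CommRingCat.ofHom (IsLocalRing.residue ↥R')) ≫ g)
    (hht₂ : ht ≫ f = Spec.map (CommRingCat.ofHom σ) ≫ φ) :
    ∃! h : Spec (CommRingCat.of ↥R) ⟶ Y, Spec.map (CommRingCat.ofHom R.subtype) ≫ h = i ∧ h ≫ f = φ ∧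
      Spec.map (CommRingCat.ofHom ι) ≫ h = g ∧ Spec.map (CommRingCat.ofHom σ) ≫ h = ht := by
  haveI : IsLocalHom σ := IsLocalHom.of_surjective σ hσs
  obtain ⟨y₀, hy₀⟩ : ∃ y₀, ht (closedPoint ↥Rt) = y₀ := ⟨_, rfl⟩
  obtain ⟨a, ha⟩ := exists_factor ht y₀ hy₀
  obtain ⟨b₁, hb₁⟩ := exists_factor g _ rfl
  have hsp : g (closedPoint ↥R') ⤳ y₀ := by
    have h1 : Spec.map (CommRingCat.ofHom Rt.subtype) (closedPoint _) ⤳ closedPoint ↥Rt :=
      specializes_closedPoint _
    have h2 := h1.map ht.continuous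
    have h3 : ht (Spec.map (CommRingCat.ofHom Rt.subtype) (closedPoint _)) = g (closedPoint ↥R') := by
      show (Spec.map (CommRingCat.ofHom Rt.subtype) ≫ ht) (closedPoint _) = g (closedPoint ↥R')
      rw [hht₁]
      show g (Spec.map (CommRingCat.ofHom (IsLocalRing.residue ↥R')) (closedPoint _)) = _
      rw [map_closedPoint (IsLocalRing.residue ↥R')]
    rwa [h3, hy₀] at h2
  let b : Y.presheaf.stalk y₀ ⟶ CommRingCat.of ↥R' := Y.presheaf.stalkSpecializes hsp ≫ b₁
  have hb : Spec.map b ≫ Y.fromSpecStalk y₀ = g := by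
    simp only [b, Spec.map_comp, Category.assoc, Scheme.SpecMap_stalkSpecializes_fromSpecStalk, hb₁]
  have hab : a ≫ CommRingCat.ofHom Rt.subtype = b ≫ CommRingCat.ofHom (IsLocalRing.residue ↥R') := by
    apply Spec.map_injective
    rw [← cancel_mono (Y.fromSpecStalk y₀), Spec.map_comp, Spec.map_comp, Category.assoc, ha,
      Category.assoc, hb, hht₁]
  have hmem : ∀ s, ((b.hom s : ↥R') : K) ∈ R := by
    intro s
    obtain ⟨r, hr⟩ := hσs (a.hom s)
    have hm : b.hom s - ι r ∈ maximalIdeal ↥R' := by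
      rw [← IsLocalRing.residue_eq_zero_iff, map_sub, sub_eq_zero, ← hσ r, hr]
      exact congr($hab.symm s)
    have hR : ((b.hom s - ι r : ↥R') : K) ∈ R := by
      rcases R.mem_or_inv_mem ((b.hom s - ι r : ↥R') : K) with h | h
      · exact h
      · by_contra hn
        have h0 : ((b.hom s - ι r : ↥R') : K) ≠ 0 := fun h0 => hn (h0 ▸ R.zero_mem)
        exact hm (isUnit_iff_exists_inv.mpr ⟨⟨_, hRR' h⟩, Subtype.ext (mul_inv_cancel₀ h0)⟩)
    have := R.add_mem _ _ hR r.2
    rw [← hι r] at this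
    simpa using this
  let c : Y.presheaf.stalk y₀ ⟶ CommRingCat.of ↥R :=
    CommRingCat.ofHom ((R'.subtype.comp b.hom).codRestrict R.toSubring hmem)
  have hcι : c ≫ CommRingCat.ofHom ι = b := by
    ext s
    exact hι _
  have hcσ : c ≫ CommRingCat.ofHom σ = a := by
    ext s
    refine (hσ _).trans ?_
    show IsLocalRing.residue ↥R' ((c ≫ CommRingCat.ofHom ι).hom s) = _
    rw [hcι]
    exact congr($hab.symm s)
  let h := Spec.map c ≫ Y.fromSpecStalk y₀
  have hh_ι : Spec.map (CommRingCat.ofHom ι) ≫ h = g := by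
    simp only [h]; rw [← Category.assoc, ← Spec.map_comp, hcι, hb]
  have hh_σ : Spec.map (CommRingCat.ofHom σ) ≫ h = ht := by
    simp only [h]; rw [← Category.assoc, ← Spec.map_comp, hcσ, ha]
  have hh_K : Spec.map (CommRingCat.ofHom R.subtype) ≫ h = i := by
    rw [← hg₁, ← hh_ι, ← Category.assoc (Spec.map _) (Spec.map (CommRingCat.ofHom ι)) h, ← Spec.map_comp,
      show CommRingCat.ofHom ι ≫ CommRingCat.ofHom R'.subtype = CommRingCat.ofHom R.subtype from by
        ext r; exact hι r]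
  have hh_pt : ∀ h' : Spec (CommRingCat.of ↥R) ⟶ Y, Spec.map (CommRingCat.ofHom σ) ≫ h' = ht →
      h' (closedPoint ↥R) = y₀ := fun h' e => by
    rw [← map_closedPoint σ]
    show (Spec.map (CommRingCat.ofHom σ) ≫ h') (closedPoint ↥Rt) = y₀
    rw [e, hy₀]
  refine ⟨h, ⟨hh_K, ?_, hh_ι, hh_σ⟩, ?_⟩
  · refine eq_of_comp_eq R.subtype Subtype.val_injective _ _ ?_ ?_
    · show f (h (closedPoint ↥R)) = φ (closedPoint ↥R)
      rw [hh_pt h hh_σ, ← map_closedPoint σ, ← hy₀]
      show (ht ≫ f) (closedPoint ↥Rt) = _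
      rw [hht₂]
      rfl
    · rw [← Category.assoc, hh_K, w]
  · rintro h' ⟨e1, -, -, e4⟩
    exact eq_of_comp_eq R.subtype Subtype.val_injective _ _
      ((hh_pt h' e4).trans (hh_pt h hh_σ).symm) (e1.trans hh_K.symm)

end Groth.Agent.Lib.ValSquare
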